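import Mathlib

/-! # Additivity of the Euler characteristic along a long exact sequence of modules of finite
length. -/

namespace Groth.Agent.LD.Alg

universe u v

/-- the length of a module as an integer. -/
noncomputable def len (R : Type u) [Ring R] (M : Type v) [AddCommGroup M] [Module R M] : ℤ :=
  ((Module.length R M).toNat : ℤ)

section

variable {R : Type u} [Ring R] {M N : Type v} [AddCommGroup M] [Module R M]
  [AddCommGroup N] [Module R N]

lemma length_eq_ker_add_range (f : M →ₗ[R] N) :
    Module.length R M = Module.length R (LinearMap.ker f) + Module.length R (LinearMap.range f) :=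
  Module.length_eq_add_of_exact (LinearMap.ker f).subtype f.rangeRestrict
    (Submodule.subtype_injective _) f.surjective_rangeRestrict (by
      intro x
      constructor
      · intro hx
        exact ⟨⟨x, by simpa [Subtype.ext_iff] using hx⟩, rfl⟩
      · rintro ⟨y, rfl⟩
        exact Subtype.ext y.2)

lemma len_eq_ker_add_range (f : M →ₗ[R] N) (hM : Module.length R M ≠ ⊤) :
    len R M = len R (LinearMap.ker f) + len R (LinearMap.range f) := by
  have h := length_eq_ker_add_range f
  have h1 : Module.length R (LinearMap.ker f) ≠ ⊤ := by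
    intro h'
    rw [h', top_add] at h
    exact hM h
  have h2 : Module.length R (LinearMap.range f) ≠ ⊤ := by
    intro h'
    rw [h', add_top] at h
    exact hM h
  unfold len
  rw [h, ENat.toNat_add h1 h2]
  push_cast
  rfl

lemma len_congr {p q : Submodule R M} (h : p = q) : len R p = len R q := by
  subst h
  rfl

lemma len_of_subsingleton [Subsingleton M] : len R M = 0 := by
  unfold len
  rw [Module.length_eq_zero]
  rfl

lemma len_bot : len R (⊥ : Submodule R M) = 0 := len_of_subsingleton

end

/-- the arithmetic of the telescoping sum. -/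
lemma telescope_aux (k c : ℕ → ℤ) (h0 : k 0 = 0) (hk : ∀ j, k (j + 1) = c j) (r : ℕ) :
    ((Finset.range (r + 1)).sum fun j => (-1 : ℤ) ^ j * (k j + c j)) = (-1 : ℤ) ^ r * c r := by
  induction r with
  | zero => simp [h0]
  | succ r ih =>
    rw [Finset.sum_range_succ, ih, hk r]
    ring

/-- **additivity of the Euler characteristic** along a long exact sequence
`0 → A₀ → B₀ → C₀ → A₁ → B₁ → ⋯` of modules of finite length with `A_{r+1} = 0`. -/
theorem euler_add {R : Type u} [Ring R] (A B C : ℕ → Type v)
    [∀ j, AddCommGroup (A j)] [∀ j, Module R (A j)]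
    [∀ j, AddCommGroup (B j)] [∀ j, Module R (B j)]
    [∀ j, AddCommGroup (C j)] [∀ j, Module R (C j)]
    (f : ∀ j, A j →ₗ[R] B j) (g : ∀ j, B j →ₗ[R] C j) (δ : ∀ j, C j →ₗ[R] A (j + 1))
    (hf0 : Function.Injective (f 0))
    (hgf : ∀ j x, g j (f j x) = 0) (hδg : ∀ j x, δ j (g j x) = 0)
    (hfδ : ∀ j x, f (j + 1) (δ j x) = 0)
    (ex₂ : ∀ j (y : B j), g j y = 0 → ∃ x, f j x = y)
    (ex₃ : ∀ j (z : C j), δ j z = 0 → ∃ y, g j y = z)
    (ex₁ : ∀ j (x : A (j + 1)), f (j + 1) x = 0 → ∃ z, δ j z = x)
    (finA : ∀ j, Module.length R (A j) ≠ ⊤) (finB : ∀ j, Module.length R (B j) ≠ ⊤)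
    (finC : ∀ j, Module.length R (C j) ≠ ⊤)
    (r : ℕ) (hr : Subsingleton (A (r + 1))) :
    ((Finset.range (r + 1)).sum fun j => (-1 : ℤ) ^ j * len R (B j)) =
      ((Finset.range (r + 1)).sum fun j => (-1 : ℤ) ^ j * len R (A j)) +
      ((Finset.range (r + 1)).sum fun j => (-1 : ℤ) ^ j * len R (C j)) := by
  have e1 : ∀ j, LinearMap.ker (g j) = LinearMap.range (f j) := by
    intro j
    ext y
    constructor
    · intro hy
      obtain ⟨x, hx⟩ := ex₂ j y hy
      exact ⟨x, hx⟩
    · rintro ⟨x, rfl⟩
      exact hgf j x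
  have e2 : ∀ j, LinearMap.ker (δ j) = LinearMap.range (g j) := by
    intro j
    ext z
    constructor
    · intro hz
      obtain ⟨y, hy⟩ := ex₃ j z hz
      exact ⟨y, hy⟩
    · rintro ⟨y, rfl⟩
      exact hδg j y
  have e3 : ∀ j, LinearMap.ker (f (j + 1)) = LinearMap.range (δ j) := by
    intro j
    ext x
    constructor
    · intro hx
      obtain ⟨z, hz⟩ := ex₁ j x hx
      exact ⟨z, hz⟩
    · rintro ⟨z, rfl⟩
      exact hfδ j z
  have hA : ∀ j, len R (A j) = len R (LinearMap.ker (f j)) + len R (LinearMap.range (f j)) :=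
    fun j => len_eq_ker_add_range (f j) (finA j)
  have hB : ∀ j, len R (B j) = len R (LinearMap.range (f j)) + len R (LinearMap.range (g j)) := by
    intro j
    rw [len_eq_ker_add_range (g j) (finB j), len_congr (e1 j)]
  have hC : ∀ j, len R (C j) = len R (LinearMap.range (g j)) + len R (LinearMap.range (δ j)) := by
    intro j
    rw [len_eq_ker_add_range (δ j) (finC j), len_congr (e2 j)]
  have h0 : len R (LinearMap.ker (f 0)) = 0 := by
    rw [len_congr (LinearMap.ker_eq_bot.mpr hf0)]
    exact len_bot
  have hk : ∀ j, len R (LinearMap.ker (f (j + 1))) = len R (LinearMap.range (δ j)) :=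
    fun j => len_congr (e3 j)
  have hcr : len R (LinearMap.range (δ r)) = 0 := by
    haveI : Subsingleton (LinearMap.range (δ r)) :=
      ⟨fun a b => Subtype.ext (Subsingleton.elim _ _)⟩
    exact len_of_subsingleton
  have ht := telescope_aux (fun j => len R (LinearMap.ker (f j)))
    (fun j => len R (LinearMap.range (δ j))) h0 hk r
  rw [hcr, mul_zero] at ht
  have hsum : ((Finset.range (r + 1)).sum fun j => (-1 : ℤ) ^ j * len R (A j)) +
      ((Finset.range (r + 1)).sum fun j => (-1 : ℤ) ^ j * len R (C j)) -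
      ((Finset.range (r + 1)).sum fun j => (-1 : ℤ) ^ j * len R (B j)) =
      (Finset.range (r + 1)).sum fun j => (-1 : ℤ) ^ j *
        (len R (LinearMap.ker (f j)) + len R (LinearMap.range (δ j))) := by
    rw [← Finset.sum_add_distrib, ← Finset.sum_sub_distrib]
    refine Finset.sum_congr rfl (fun j _ => ?_)
    rw [hA j, hB j, hC j]
    ring
  rw [ht] at hsum
  linarith

end Groth.Agent.LD.Alg
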