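import Mathlib

/-! # A function on the integers with vanishing iterated forward difference is a polynomial. -/

namespace Groth.Agent.LD.Alg
open Polynomial

/-- every rational polynomial has a discrete antiderivative. -/
lemma exists_antidiff (P : ℚ[X]) :
    ∃ Q : ℚ[X], ∀ x : ℚ, Q.eval (x + 1) - Q.eval x = P.eval x := by
  refine ⟨∑ n ∈ P.support, C (P.coeff n / ((n : ℚ) + 1)) * Polynomial.bernoulli (n + 1),
    fun x => ?_⟩
  rw [Polynomial.eval_finset_sum, Polynomial.eval_finset_sum, ← Finset.sum_sub_distrib,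
    Polynomial.eval_eq_sum, Polynomial.sum_def]
  refine Finset.sum_congr rfl (fun n _ => ?_)
  simp only [Polynomial.eval_mul, Polynomial.eval_C]
  rw [add_comm x 1, Polynomial.bernoulli_eval_one_add, Nat.add_sub_cancel]
  have h : ((n : ℚ) + 1) ≠ 0 := by positivity
  push_cast
  field_simp
  ring

/-- a function on `ℤ` whose `N`-th iterated forward difference vanishes is given by a
polynomial. -/
theorem exists_poly_of_fwdDiff_iter_eq_zero : ∀ (N : ℕ) (h : ℤ → ℚ),
    (fwdDiff (1 : ℤ))^[N] h = 0 → ∃ Q : ℚ[X], ∀ m : ℤ, h m = Q.eval (m : ℚ)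
  | 0, h, hh => ⟨0, fun m => by simpa using congrFun hh m⟩
  | N + 1, h, hh => by
    rw [Function.iterate_succ_apply] at hh
    obtain ⟨Q', hQ'⟩ := exists_poly_of_fwdDiff_iter_eq_zero N (fwdDiff 1 h) hh
    obtain ⟨Q, hQ⟩ := exists_antidiff Q'
    have hg : ∀ m : ℤ, h (m + 1) - Q.eval ((m : ℚ) + 1) = h m - Q.eval (m : ℚ) := by
      intro m
      have h1 : h (m + 1) - h m = Q'.eval (m : ℚ) := hQ' m
      have h2 := hQ (m : ℚ)
      linarith
    have hconst : ∀ m : ℤ, h m - Q.eval (m : ℚ) = h 0 - Q.eval 0 := by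
      intro m
      induction m using Int.induction_on with
      | zero => simp
      | succ i ih =>
        rw [← ih]
        have := hg i
        push_cast
        exact this
      | pred i ih =>
        rw [← ih]
        have := hg (-(i : ℤ) - 1)
        rw [sub_add_cancel] at this
        push_cast at this ⊢
        rw [sub_add_cancel] at this
        exact this.symm
    exact ⟨Q + C (h 0 - Q.eval 0), fun m => by
      rw [eval_add, eval_C]
      linarith [hconst m]⟩

/-- a function on `ℤ` all of whose alternating binomial sums of length `N + 1` vanish is given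
by a polynomial. -/
theorem exists_poly_of_alt_sum (N : ℕ) (h : ℤ → ℚ)
    (hh : ∀ e : ℤ, ((Finset.range (N + 1)).sum fun j : ℕ =>
      (-1 : ℚ) ^ j * ((Nat.choose N j : ℚ) * h (e + j))) = 0) :
    ∃ Q : ℚ[X], ∀ m : ℤ, h m = Q.eval (m : ℚ) := by
  apply exists_poly_of_fwdDiff_iter_eq_zero N
  funext y
  rw [fwdDiff_iter_eq_sum_shift]
  have h1 : ∀ k ∈ Finset.range (N + 1),
      ((-1 : ℤ) ^ (N - k) * (N.choose k : ℤ)) • h (y + k • (1 : ℤ)) =
        (-1 : ℚ) ^ N * ((-1 : ℚ) ^ k * ((Nat.choose N k : ℚ) * h (y + k))) := by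
    intro k hk
    have hk' : k ≤ N := by
      have := Finset.mem_range.mp hk
      omega
    have e1 : (-1 : ℚ) ^ N = (-1) ^ (N - k) * (-1) ^ k := by
      rw [← pow_add, Nat.sub_add_cancel hk']
    have e2 : ((-1 : ℚ) ^ k) * ((-1 : ℚ) ^ k) = 1 := by
      rw [← mul_pow]
      norm_num
    rw [zsmul_eq_mul, nsmul_eq_mul, mul_one, e1]
    push_cast
    calc (-1 : ℚ) ^ (N - k) * (N.choose k : ℚ) * h (y + k)
        = (-1 : ℚ) ^ (N - k) * ((N.choose k : ℚ) * h (y + k)) * 1 := by ring
      _ = (-1 : ℚ) ^ (N - k) * ((N.choose k : ℚ) * h (y + k)) *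
            (((-1 : ℚ) ^ k) * ((-1 : ℚ) ^ k)) := by rw [e2]
      _ = _ := by ring
  rw [Finset.sum_congr rfl h1, ← Finset.mul_sum, hh y, mul_zero]
  rfl

end Groth.Agent.LD.Alg
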